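/-
Basic facts on the Puig series: `puigStep_anti`, `puigStep_bot`, `puigSeq_even_le_odd`,
`puigSeq_stabilizes`, `puigLower_le_puigSubgroup`, `puigStep_puigLower`, `puigStep_puigSubgroup`.
-/
import Cfsg.Agent.EqLemmas

set_option autoImplicit false
open Cfsg

namespace Cfsg.Agent.Puig

variable {G : Type*} [Group G]

theorem puigStep_anti {X Y : Subgroup G} (h : X ≤ Y) : puigStep Y ≤ puigStep X :=
  sSup_le_sSup fun _ hA => ⟨hA.1, h.trans hA.2⟩

theorem puigSeq_succ (n : ℕ) : puigSeq G (n + 1) = puigStep (puigSeq G n) := rfl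

theorem puigSeq_zero : puigSeq G 0 = ⊥ := rfl

theorem puigStep_bot : puigStep (⊥ : Subgroup G) = ⊤ := by
  rw [eq_top_iff]
  intro x _
  refine Subgroup.mem_sSup_of_mem ?_ (Subgroup.mem_zpowers x)
  exact ⟨inferInstance, bot_le⟩

theorem puigSeq_one : puigSeq G 1 = ⊤ := by rw [puigSeq_succ, puigSeq_zero, puigStep_bot]

/-- an abelian subgroup normalized by everything lies in every positive term of the series -/
theorem le_puigStep {A : Subgroup G} (hA : IsMulCommutative A) [A.Normal] (X : Subgroup G) :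
    A ≤ puigStep X := by
  refine le_sSup ⟨hA, ?_⟩
  rw [Subgroup.normalizer_eq_top]; exact le_top

theorem puigSeq_even_mono_succ : ∀ n : ℕ, puigSeq G (2 * n) ≤ puigSeq G (2 * n + 2) ∧
    puigSeq G (2 * n + 3) ≤ puigSeq G (2 * n + 1)
  | 0 => ⟨bot_le, by rw [puigSeq_one]; exact le_top⟩
  | n + 1 => by
    have h := puigSeq_even_mono_succ n
    have h1 : puigSeq G (2 * n + 2) ≤ puigSeq G (2 * n + 4) := puigStep_anti h.2
    exact ⟨h1, puigStep_anti h1⟩

theorem puigSeq_even_mono : Monotone fun n => puigSeq G (2 * n) :=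
  monotone_nat_of_le_succ fun n => (puigSeq_even_mono_succ n).1

theorem puigSeq_odd_anti : Antitone fun n => puigSeq G (2 * n + 1) :=
  antitone_nat_of_succ_le fun n => (puigSeq_even_mono_succ n).2

theorem puigSeq_consecutive : ∀ n : ℕ, puigSeq G (2 * n) ≤ puigSeq G (2 * n + 1)
  | 0 => bot_le
  | n + 1 => by
    have h := puigSeq_consecutive n
    have h1 : puigSeq G (2 * n + 2) ≤ puigSeq G (2 * n + 1) := puigStep_anti h
    exact puigStep_anti h1

theorem puigSeq_even_le_odd (n m : ℕ) : puigSeq G (2 * n) ≤ puigSeq G (2 * m + 1) :=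
  ((puigSeq_even_mono (le_max_left n m)).trans (puigSeq_consecutive _)).trans
    (puigSeq_odd_anti (le_max_right n m))

theorem puigLower_le_puigSubgroup : puigLower G ≤ puigSubgroup G :=
  iSup_le fun n => le_iInf fun m => puigSeq_even_le_odd n m

theorem puigSeq_stabilizes [Finite G] :
    ∃ k : ℕ, ∀ n : ℕ, k ≤ n →
      puigSeq G (2 * n) = puigLower G ∧ puigSeq G (2 * n + 1) = puigSubgroup G := by
  obtain ⟨k₁, h₁⟩ := WellFoundedGT.monotone_chain_condition
    (⟨fun n => puigSeq G (2 * n), puigSeq_even_mono⟩ : ℕ →o Subgroup G)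
  simp only [OrderHom.coe_mk] at h₁
  have hL : ∀ n, k₁ ≤ n → puigSeq G (2 * n) = puigLower G := fun n hn => by
    refine le_antisymm (le_iSup (fun n => puigSeq G (2 * n)) n) (iSup_le fun m => ?_)
    calc puigSeq G (2 * m) ≤ puigSeq G (2 * max m k₁) := puigSeq_even_mono (le_max_left m k₁)
      _ = puigSeq G (2 * k₁) := (h₁ _ (le_max_right m k₁)).symm
      _ = puigSeq G (2 * n) := h₁ n hn
  have hU : ∀ n, k₁ ≤ n → puigSeq G (2 * n + 1) = puigSubgroup G := fun n hn => by
    refine le_antisymm (le_iInf fun m => ?_) (iInf_le (fun n => puigSeq G (2 * n + 1)) n)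
    calc puigSeq G (2 * n + 1) = puigStep (puigLower G) := by rw [puigSeq_succ, hL n hn]
      _ = puigSeq G (2 * max m k₁ + 1) := by rw [puigSeq_succ, hL _ (le_max_right m k₁)]
      _ ≤ puigSeq G (2 * m + 1) := puigSeq_odd_anti (le_max_left m k₁)
  exact ⟨k₁, fun n hn => ⟨hL n hn, hU n hn⟩⟩

theorem puigStep_puigLower [Finite G] : puigStep (puigLower G) = puigSubgroup G := by
  obtain ⟨k, hk⟩ := puigSeq_stabilizes (G := G)
  rw [← (hk k le_rfl).1, ← (hk k le_rfl).2, puigSeq_succ]

theorem puigStep_puigSubgroup [Finite G] : puigStep (puigSubgroup G) = puigLower G := by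
  obtain ⟨k, hk⟩ := puigSeq_stabilizes (G := G)
  rw [← (hk k le_rfl).2, ← (hk (k + 1) (Nat.le_succ k)).1]
  rfl

end Cfsg.Agent.Puig
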