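/-
The Puig series of a subgroup `T`, viewed inside the ambient group.

* `puigIn T n`, `puigTop T` (the image of `L(T)`), `puigBot T` (the image of `L_*(T)`)
* `le_puigIn_succ`, `puigIn_succ_le`, `exists_stable`, `le_puigTop`, `puigTop_le`, `le_puigBot`,
  `puigBot_le`, `normalizer_le_normalizer_puigIn`, `inf_centralizer_puigIn_le`
* `puig_step_induction` : the alternating induction comparing two series
* `puigTop_eq_of_between` : `L(S) ≤ T ≤ S` gives `L(T) = L(S)`
-/
import Cfsg.Agent.Lib.Puig.Basic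
import Cfsg.Agent.S1466

set_option autoImplicit false
open Cfsg

namespace Cfsg.Agent.Puig

variable {G : Type*} [Group G]

/-- `L_n(T)` inside `G`. -/
def puigIn (T : Subgroup G) (n : ℕ) : Subgroup G := (puigSeq ↥T n).map T.subtype

/-- `L(T)` inside `G`. -/
def puigTop (T : Subgroup G) : Subgroup G := (puigSubgroup ↥T).map T.subtype

/-- `L_*(T)` inside `G`. -/
def puigBot (T : Subgroup G) : Subgroup G := (puigLower ↥T).map T.subtype

theorem puigIn_zero (T : Subgroup G) : puigIn T 0 = ⊥ := by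
  rw [puigIn, puigSeq_zero, Subgroup.map_bot]

theorem puigIn_one (T : Subgroup G) : puigIn T 1 = T := by
  rw [puigIn, puigSeq_one, ← MonoidHom.range_eq_map, Subgroup.range_subtype]

theorem puigIn_le (T : Subgroup G) (n : ℕ) : puigIn T n ≤ T := Subgroup.map_subtype_le _

theorem puigTop_le_self (T : Subgroup G) : puigTop T ≤ T := Subgroup.map_subtype_le _

theorem puigBot_le_self (T : Subgroup G) : puigBot T ≤ T := Subgroup.map_subtype_le _

theorem puigBot_le_puigTop (T : Subgroup G) : puigBot T ≤ puigTop T :=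
  Subgroup.map_mono puigLower_le_puigSubgroup

theorem puigIn_even_le_puigBot (T : Subgroup G) (n : ℕ) : puigIn T (2 * n) ≤ puigBot T :=
  Subgroup.map_mono (le_iSup (fun n => puigSeq ↥T (2 * n)) n)

theorem puigTop_le_puigIn_odd (T : Subgroup G) (n : ℕ) : puigTop T ≤ puigIn T (2 * n + 1) :=
  Subgroup.map_mono (iInf_le (fun n => puigSeq ↥T (2 * n + 1)) n)

theorem exists_stable [Finite G] (T : Subgroup G) : ∃ k : ℕ, ∀ n : ℕ, k ≤ n →
    puigIn T (2 * n) = puigBot T ∧ puigIn T (2 * n + 1) = puigTop T := by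
  obtain ⟨k, hk⟩ := puigSeq_stabilizes (G := ↥T)
  exact ⟨k, fun n hn => ⟨by rw [puigIn, (hk n hn).1, puigBot],
    by rw [puigIn, (hk n hn).2, puigTop]⟩⟩

theorem le_puigIn_succ {T A : Subgroup G} {n : ℕ} (hAT : A ≤ T) (hA : IsMulCommutative A)
    (hX : puigIn T n ≤ Subgroup.normalizer (A : Set G)) : A ≤ puigIn T (n + 1) := by
  intro a ha
  refine ⟨⟨a, hAT ha⟩, ?_, rfl⟩
  suffices hmem : A.subgroupOf T ≤ puigStep (puigSeq ↥T n) from hmem (x := ⟨a, hAT ha⟩) ha
  refine le_sSup ⟨?_, ?_⟩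
  · exact Subgroup.le_centralizer_iff_isMulCommutative.1 fun x hx =>
      Subgroup.mem_centralizer_iff.2 fun y hy => Subtype.ext
        (congrArg (Subtype.val : ↥A → G) (hA.is_comm.comm ⟨(y : G), hy⟩ ⟨(x : G), hx⟩))
  · intro x hx
    have h := hX (Subgroup.mem_map_of_mem T.subtype hx)
    rw [Subgroup.mem_normalizer_iff] at h ⊢
    intro y
    exact h (y : G)

theorem puigIn_succ_le {T H : Subgroup G} {n : ℕ}
    (h : ∀ A : Subgroup G, A ≤ T → IsMulCommutative A →
      puigIn T n ≤ Subgroup.normalizer (A : Set G) → A ≤ H) : puigIn T (n + 1) ≤ H := by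
  rw [puigIn, puigSeq_succ, Subgroup.map_le_iff_le_comap]
  refine sSup_le ?_
  rintro A ⟨hA, hX⟩
  rw [← Subgroup.map_le_iff_le_comap]
  refine h _ (Subgroup.map_subtype_le A) inferInstance ?_
  exact (Subgroup.map_mono hX).trans (Subgroup.le_normalizer_map _)

theorem le_puigTop [Finite G] {T A : Subgroup G} (hAT : A ≤ T) (hA : IsMulCommutative A)
    (hX : puigBot T ≤ Subgroup.normalizer (A : Set G)) : A ≤ puigTop T := by
  obtain ⟨k, hk⟩ := exists_stable T
  rw [← (hk k le_rfl).2]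
  exact le_puigIn_succ hAT hA ((puigIn_even_le_puigBot T k).trans hX)

theorem puigTop_le [Finite G] {T H : Subgroup G}
    (h : ∀ A : Subgroup G, A ≤ T → IsMulCommutative A →
      puigBot T ≤ Subgroup.normalizer (A : Set G) → A ≤ H) : puigTop T ≤ H := by
  obtain ⟨k, hk⟩ := exists_stable T
  rw [← (hk k le_rfl).2]
  exact puigIn_succ_le fun A hAT hA hX => h A hAT hA (((hk k le_rfl).1).ge.trans hX)

theorem le_puigBot [Finite G] {T A : Subgroup G} (hAT : A ≤ T) (hA : IsMulCommutative A)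
    (hX : puigTop T ≤ Subgroup.normalizer (A : Set G)) : A ≤ puigBot T := by
  obtain ⟨k, hk⟩ := exists_stable T
  rw [← (hk (k + 1) (Nat.le_succ k)).1]
  exact le_puigIn_succ (n := 2 * k + 1) hAT hA ((hk k le_rfl).2.le.trans hX)

theorem puigBot_le [Finite G] {T H : Subgroup G}
    (h : ∀ A : Subgroup G, A ≤ T → IsMulCommutative A →
      puigTop T ≤ Subgroup.normalizer (A : Set G) → A ≤ H) : puigBot T ≤ H := by
  obtain ⟨k, hk⟩ := exists_stable T
  rw [← (hk (k + 1) (Nat.le_succ k)).1]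
  exact puigIn_succ_le (n := 2 * k + 1) fun A hAT hA hX =>
    h A hAT hA (((hk k le_rfl).2).ge.trans hX)

theorem map_puigIn_le : ∀ (n : ℕ) (T : Subgroup G) (f : G ≃* G),
    T.map f.toMonoidHom = T → (puigIn T n).map f.toMonoidHom ≤ puigIn T n
  | 0, T, f, _ => by rw [puigIn_zero, Subgroup.map_bot]
  | n + 1, T, f, hT => by
    rw [Subgroup.map_le_iff_le_comap]
    refine puigIn_succ_le fun A hAT hA hX => ?_
    rw [← Subgroup.map_le_iff_le_comap]
    refine le_puigIn_succ ((Subgroup.map_mono hAT).trans hT.le) inferInstance ?_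
    have hsymm : T.map f.symm.toMonoidHom = T := by
      conv_lhs => rw [← hT]
      rw [Subgroup.map_map]
      convert Subgroup.map_id T using 2
      ext x; simp
    refine le_trans ?_ (Subgroup.le_normalizer_map _)
    intro x hx
    exact ⟨f.symm x, hX (map_puigIn_le n T f.symm hsymm ⟨x, hx, rfl⟩), by simp⟩

theorem normalizer_le_normalizer_puigIn [Finite G] (T : Subgroup G) (n : ℕ) :
    Subgroup.normalizer (T : Set G) ≤ Subgroup.normalizer (puigIn T n : Set G) := by
  have hmap : ∀ g ∈ Subgroup.normalizer (T : Set G), T.map (MulAut.conj g).toMonoidHom = T := by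
    intro g hg
    ext x
    rw [Subgroup.mem_map_equiv, MulAut.conj_symm_apply, Subgroup.mem_normalizer_iff.1 hg (g⁻¹ * x * g)]
    simp [mul_assoc]
  intro g hg
  rw [Subgroup.mem_normalizer_iff]
  intro x
  refine ⟨fun hx => map_puigIn_le n T (MulAut.conj g) (hmap g hg) ⟨x, hx, rfl⟩, fun hx => ?_⟩
  have := map_puigIn_le n T (MulAut.conj g⁻¹) (hmap _ (inv_mem hg)) ⟨_, hx, rfl⟩
  simpa [mul_assoc] using this

theorem normalizer_le_normalizer_puigTop [Finite G] (T : Subgroup G) :
    Subgroup.normalizer (T : Set G) ≤ Subgroup.normalizer (puigTop T : Set G) := by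
  obtain ⟨k, hk⟩ := exists_stable T
  rw [← (hk k le_rfl).2]
  exact normalizer_le_normalizer_puigIn T _

theorem normalizer_le_normalizer_puigBot [Finite G] (T : Subgroup G) :
    Subgroup.normalizer (T : Set G) ≤ Subgroup.normalizer (puigBot T : Set G) := by
  obtain ⟨k, hk⟩ := exists_stable T
  rw [← (hk k le_rfl).1]
  exact normalizer_le_normalizer_puigIn T _

theorem puigIn_normal [Finite G] (T : Subgroup G) [T.Normal] (n : ℕ) : (puigIn T n).Normal := by
  rw [← Subgroup.normalizer_eq_top_iff, eq_top_iff, ← Subgroup.normalizer_eq_top (H := T)]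
  exact normalizer_le_normalizer_puigIn T n

theorem puigTop_normal [Finite G] (T : Subgroup G) [T.Normal] : (puigTop T).Normal := by
  obtain ⟨k, hk⟩ := exists_stable T
  rw [← (hk k le_rfl).2]
  exact puigIn_normal T _

theorem puigBot_normal [Finite G] (T : Subgroup G) [T.Normal] : (puigBot T).Normal := by
  obtain ⟨k, hk⟩ := exists_stable T
  rw [← (hk k le_rfl).1]
  exact puigIn_normal T _

theorem inf_centralizer_puigIn_le [Finite G] {p : ℕ} [Fact p.Prime] {T : Subgroup G}
    (hT : IsPGroup p T) {i : ℕ} (hi : 0 < i) :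
    T ⊓ Subgroup.centralizer (puigIn T i : Set G) ≤ puigIn T i := by
  obtain ⟨A, hn, hc, -, hAc⟩ := Cfsg.Agent.S1466.exists_self_centralizing p hT
  have := hn
  obtain ⟨j, rfl⟩ : ∃ j, i = j + 1 := ⟨i - 1, by omega⟩
  rintro x ⟨hxT, hx⟩
  refine ⟨⟨x, hxT⟩, le_puigStep hc _ (hAc ?_), rfl⟩
  refine Subgroup.mem_centralizer_iff.2 fun a ha => Subtype.ext ?_
  exact Subgroup.mem_centralizer_iff.1 hx (a : G) ⟨a, le_puigStep hc _ ha, rfl⟩

theorem inf_centralizer_puigTop_le [Finite G] {p : ℕ} [Fact p.Prime] {T : Subgroup G}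
    (hT : IsPGroup p T) : T ⊓ Subgroup.centralizer (puigTop T : Set G) ≤ puigTop T := by
  obtain ⟨k, hk⟩ := exists_stable T
  rw [← (hk k le_rfl).2]
  exact inf_centralizer_puigIn_le hT (by omega)

theorem inf_centralizer_puigBot_le [Finite G] {p : ℕ} [Fact p.Prime] {T : Subgroup G}
    (hT : IsPGroup p T) : T ⊓ Subgroup.centralizer (puigBot T : Set G) ≤ puigBot T := by
  obtain ⟨k, hk⟩ := exists_stable T
  rw [← (hk (k + 1) (Nat.le_succ k)).1]
  exact inf_centralizer_puigIn_le hT (by omega)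

/-- The alternating induction: if `Q ≤ S` and each even step of the series of `S` stays inside `Q`,
then the series of `Q` is squeezed between that of `S`. -/
theorem puig_step_induction {S Q : Subgroup G} (hQS : Q ≤ S)
    (hstep : ∀ (i : ℕ) (A : Subgroup G), A ≤ S → IsMulCommutative A →
      puigIn S (2 * i + 1) ≤ Subgroup.normalizer (A : Set G) →
      puigIn Q (2 * i + 1) ≤ puigIn S (2 * i + 1) → A ≤ Q) : ∀ i : ℕ,
    puigIn S (2 * i) ≤ puigIn Q (2 * i) ∧ puigIn Q (2 * i + 1) ≤ puigIn S (2 * i + 1)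
  | 0 => by
    refine ⟨by rw [Nat.mul_zero, puigIn_zero]; exact bot_le, ?_⟩
    rw [Nat.mul_zero, Nat.zero_add, puigIn_one, puigIn_one]; exact hQS
  | i + 1 => by
    obtain ⟨-, h2⟩ := puig_step_induction hQS hstep i
    have h1 : puigIn S (2 * i + 2) ≤ puigIn Q (2 * i + 2) :=
      puigIn_succ_le fun A hAS hA hX =>
        le_puigIn_succ (hstep i A hAS hA hX h2) hA (h2.trans hX)
    exact ⟨h1, puigIn_succ_le fun A hAQ hA hX =>
      le_puigIn_succ (hAQ.trans hQS) hA (h1.trans hX)⟩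

theorem puig_chain_of_step [Finite G] {S Q : Subgroup G} (hQS : Q ≤ S)
    (hstep : ∀ (i : ℕ) (A : Subgroup G), A ≤ S → IsMulCommutative A →
      puigIn S (2 * i + 1) ≤ Subgroup.normalizer (A : Set G) →
      puigIn Q (2 * i + 1) ≤ puigIn S (2 * i + 1) → A ≤ Q) :
    puigBot S ≤ puigBot Q ∧ puigTop Q ≤ puigTop S := by
  obtain ⟨k, hk⟩ := exists_stable S
  obtain ⟨l, hl⟩ := exists_stable Q
  have h := puig_step_induction hQS hstep (max k l)
  rw [(hk _ (le_max_left k l)).1, (hk _ (le_max_left k l)).2,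
    (hl _ (le_max_right k l)).1, (hl _ (le_max_right k l)).2] at h
  exact h

/-- `L(S) ≤ T ≤ S` gives `L(T) = L(S)`. -/
theorem puigTop_eq_of_between [Finite G] {S T : Subgroup G} (h1 : puigTop S ≤ T) (h2 : T ≤ S) :
    puigTop T = puigTop S := by
  refine le_antisymm ?_ ?_
  · refine (puig_chain_of_step h2 fun i A hAS hA hX _ => ?_).2
    refine le_trans ?_ h1
    exact (le_puigBot hAS hA ((puigTop_le_puigIn_odd S i).trans hX)).trans (puigBot_le_puigTop S)
  · have key : ∀ i : ℕ, puigIn T (2 * i) ≤ puigBot S ∧ puigTop S ≤ puigIn T (2 * i + 1) := by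
      intro i
      induction i with
      | zero =>
        exact ⟨by rw [Nat.mul_zero, puigIn_zero]; exact bot_le,
          by rw [Nat.mul_zero, Nat.zero_add, puigIn_one]; exact h1⟩
      | succ i ih =>
        have e1 : puigIn T (2 * i + 2) ≤ puigBot S :=
          puigIn_succ_le fun A hAT hA hX => le_puigBot (hAT.trans h2) hA (ih.2.trans hX)
        refine ⟨e1, puigTop_le fun A hAS hA hX => ?_⟩
        exact le_puigIn_succ ((le_puigTop hAS hA hX).trans h1) hA (e1.trans hX)
    obtain ⟨l, hl⟩ := exists_stable T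
    exact (hl l le_rfl).2 ▸ (key l).2

theorem map_center_map_eq (T : Subgroup G) :
    ((Subgroup.center ↥(puigSubgroup ↥T)).map (puigSubgroup ↥T).subtype).map T.subtype =
      puigTop T ⊓ Subgroup.centralizer (puigTop T : Set G) := by
  ext x
  constructor
  · rintro ⟨y, ⟨z, hz, rfl⟩, rfl⟩
    refine ⟨⟨z, z.2, rfl⟩, Subgroup.mem_centralizer_iff.2 ?_⟩
    rintro _ ⟨w, hw, rfl⟩
    exact congrArg (fun u : ↥(puigSubgroup ↥T) => ((u : ↥T) : G))
      (Subgroup.mem_center_iff.1 hz ⟨w, hw⟩)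
  · rintro ⟨⟨y, hy, rfl⟩, hx⟩
    refine ⟨y, ⟨⟨y, hy⟩, Subgroup.mem_center_iff.2 fun w => ?_, rfl⟩, rfl⟩
    exact Subtype.ext (Subtype.ext
      (Subgroup.mem_centralizer_iff.1 hx ((w : ↥T) : G) ⟨w, w.2, rfl⟩))

end Cfsg.Agent.Puig
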