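/-
Naturality of the Puig series.

* `puigSeq_map_mulEquiv`
* `puigTop_map`, `puigBot_map` : for a homomorphism injective on `T`
-/
import Cfsg.Agent.Lib.Puig.Relative

set_option autoImplicit false
open Cfsg

namespace Cfsg.Agent.Puig

variable {G H : Type*} [Group G] [Group H]

theorem puigStep_map_le (e : G ≃* H) (X : Subgroup G) :
    (puigStep X).map e.toMonoidHom ≤ puigStep (X.map e.toMonoidHom) := by
  rw [Subgroup.map_le_iff_le_comap]
  refine sSup_le ?_
  rintro A ⟨hA, hX⟩
  rw [← Subgroup.map_le_iff_le_comap]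
  have := hA
  exact le_sSup ⟨inferInstance, (Subgroup.map_mono hX).trans (Subgroup.le_normalizer_map _)⟩

theorem puigStep_map (e : G ≃* H) (X : Subgroup G) :
    (puigStep X).map e.toMonoidHom = puigStep (X.map e.toMonoidHom) := by
  refine le_antisymm (puigStep_map_le e X) ?_
  have h := puigStep_map_le e.symm (X.map e.toMonoidHom)
  have hX : (X.map e.toMonoidHom).map e.symm.toMonoidHom = X := by
    rw [Subgroup.map_map]
    convert Subgroup.map_id X using 2
    ext x; simp
  rw [hX] at h
  intro y hy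
  exact ⟨e.symm y, h ⟨y, hy, rfl⟩, by simp⟩

theorem puigSeq_map_mulEquiv (e : G ≃* H) : ∀ n : ℕ,
    (puigSeq G n).map e.toMonoidHom = puigSeq H n
  | 0 => by rw [puigSeq_zero, puigSeq_zero, Subgroup.map_bot]
  | n + 1 => by rw [puigSeq_succ, puigSeq_succ, puigStep_map, puigSeq_map_mulEquiv e n]

theorem puigIn_map (f : G →* H) (T : Subgroup G) (hf : Set.InjOn f T) (n : ℕ) :
    (puigIn T n).map f = puigIn (T.map f) n := by
  let e : ↥T ≃* ↥(T.map f) := MulEquiv.ofBijective (f.subgroupMap T)
    ⟨fun a b hab => Subtype.ext (hf a.2 b.2 (congrArg Subtype.val hab)),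
      f.subgroupMap_surjective T⟩
  rw [puigIn, puigIn, ← puigSeq_map_mulEquiv e n, Subgroup.map_map, Subgroup.map_map]
  rfl

theorem puigTop_map [Finite G] [Finite H] (f : G →* H) (T : Subgroup G) (hf : Set.InjOn f T) :
    (puigTop T).map f = puigTop (T.map f) := by
  obtain ⟨k, hk⟩ := exists_stable T
  obtain ⟨l, hl⟩ := exists_stable (T.map f)
  rw [← (hk _ (le_max_left k l)).2, ← (hl _ (le_max_right k l)).2, puigIn_map f T hf]

theorem puigBot_map [Finite G] [Finite H] (f : G →* H) (T : Subgroup G) (hf : Set.InjOn f T) :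
    (puigBot T).map f = puigBot (T.map f) := by
  obtain ⟨k, hk⟩ := exists_stable T
  obtain ⟨l, hl⟩ := exists_stable (T.map f)
  rw [← (hk _ (le_max_left k l)).1, ← (hl _ (le_max_right k l)).1, puigIn_map f T hf]

end Cfsg.Agent.Puig
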